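import Cfsg.Agent.Chev.OddInvol.Main
import Cfsg.Agent.Chev.DataE8

/-! Certificates for the involutions of type E8 over fields of odd order. -/

set_option autoImplicit false
set_option maxRecDepth 100000
set_option maxHeartbeats 4000000
set_option linter.style.longLine false

namespace CfsgLib.Chev.OddInvol.DataE8

/-- Longest elements and reasons. -/
def wl : List (List ℕ × Wit) :=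
  [([0], .sq 0 14),
   ([1], .sq 1 7),
   ([0, 1], .sq 0 16),
   ([2], .sq 2 6),
   ([0, 2, 0], .imp 0),
   ([1, 2], .sq 1 15),
   ([0, 1, 2, 0], .imp 0),
   ([3], .sq 3 5),
   ([0, 3], .sq 0 14),
   ([1, 3, 1], .imp 1),
   ([0, 1, 3, 1], .imp 1),
   ([2, 3, 2], .imp 2),
   ([0, 2, 0, 3, 2, 0], .imp 0),
   ([1, 2, 3, 1, 2, 3], .imp 1),
   ([0, 1, 2, 0, 3, 1, 2, 0, 3, 2], .imp 0),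
   ([4], .sq 4 4),
   ([0, 4], .sq 0 14),
   ([1, 4], .sq 1 7),
   ([0, 1, 4], .sq 0 18),
   ([2, 4], .sq 2 6),
   ([0, 2, 0, 4], .imp 0),
   ([1, 2, 4], .sq 1 15),
   ([0, 1, 2, 0, 4], .imp 0),
   ([3, 4, 3], .imp 3),
   ([0, 3, 4, 3], .imp 3),
   ([1, 3, 1, 4, 3, 1], .imp 1),
   ([0, 1, 3, 1, 4, 3, 1], .imp 1),
   ([2, 3, 2, 4, 3, 2], .imp 2),
   ([0, 2, 0, 3, 2, 0, 4, 3, 2, 0], .imp 0),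
   ([1, 2, 3, 1, 2, 3, 4, 3, 1, 2, 3, 4], .tri 1 3 142),
   ([0, 1, 2, 0, 3, 1, 2, 0, 3, 2, 4, 3, 1, 2, 0, 3, 2, 4, 3, 1], .imp 1),
   ([5], .sq 5 3),
   ([0, 5], .sq 0 14),
   ([1, 5], .sq 1 7),
   ([0, 1, 5], .sq 0 16),
   ([2, 5], .sq 2 6),
   ([0, 2, 0, 5], .imp 0),
   ([1, 2, 5], .sq 1 15),
   ([0, 1, 2, 0, 5], .imp 0),
   ([3, 5], .sq 3 5),
   ([0, 3, 5], .sq 0 14),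
   ([1, 3, 1, 5], .imp 1),
   ([0, 1, 3, 1, 5], .imp 1),
   ([2, 3, 2, 5], .imp 2),
   ([0, 2, 0, 3, 2, 0, 5], .imp 0),
   ([1, 2, 3, 1, 2, 3, 5], .imp 1),
   ([0, 1, 2, 0, 3, 1, 2, 0, 3, 2, 5], .imp 0),
   ([4, 5, 4], .imp 4),
   ([0, 4, 5, 4], .imp 4),
   ([1, 4, 5, 4], .imp 4),
   ([0, 1, 4, 5, 4], .imp 4),
   ([2, 4, 5, 4], .imp 4),
   ([0, 2, 0, 4, 5, 4], .imp 0),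
   ([1, 2, 4, 5, 4], .imp 4),
   ([0, 1, 2, 0, 4, 5, 4], .imp 0),
   ([3, 4, 3, 5, 4, 3], .imp 3),
   ([0, 3, 4, 3, 5, 4, 3], .imp 3),
   ([1, 3, 1, 4, 3, 1, 5, 4, 3, 1], .imp 1),
   ([0, 1, 3, 1, 4, 3, 1, 5, 4, 3, 1], .imp 1),
   ([2, 3, 2, 4, 3, 2, 5, 4, 3, 2], .imp 2),
   ([0, 2, 0, 3, 2, 0, 4, 3, 2, 0, 5, 4, 3, 2, 0], .imp 0),
   ([1, 2, 3, 1, 2, 3, 4, 3, 1, 2, 3, 4, 5, 4, 3, 1, 2, 3, 4, 5], .imp 1),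
   ([0, 1, 2, 0, 3, 1, 2, 0, 3, 2, 4, 3, 1, 2, 0, 3, 2, 4, 3, 1, 5, 4, 3, 1, 2, 0, 3, 2, 4, 3, 1, 5, 4, 3, 2, 0], .imp 0),
   ([6], .sq 6 2),
   ([0, 6], .sq 0 14),
   ([1, 6], .sq 1 7),
   ([0, 1, 6], .sq 0 16),
   ([2, 6], .sq 2 6),
   ([0, 2, 0, 6], .imp 0),
   ([1, 2, 6], .sq 1 15),
   ([0, 1, 2, 0, 6], .imp 0),
   ([3, 6], .sq 3 5),
   ([0, 3, 6], .sq 0 14),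
   ([1, 3, 1, 6], .imp 1),
   ([0, 1, 3, 1, 6], .imp 1),
   ([2, 3, 2, 6], .imp 2),
   ([0, 2, 0, 3, 2, 0, 6], .imp 0),
   ([1, 2, 3, 1, 2, 3, 6], .imp 1),
   ([0, 1, 2, 0, 3, 1, 2, 0, 3, 2, 6], .imp 0),
   ([4, 6], .sq 4 4),
   ([0, 4, 6], .sq 0 14),
   ([1, 4, 6], .sq 1 7),
   ([0, 1, 4, 6], .sq 0 20),
   ([2, 4, 6], .sq 2 6),
   ([0, 2, 0, 4, 6], .imp 0),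
   ([1, 2, 4, 6], .sq 1 15),
   ([0, 1, 2, 0, 4, 6], .imp 0),
   ([3, 4, 3, 6], .imp 3),
   ([0, 3, 4, 3, 6], .imp 3),
   ([1, 3, 1, 4, 3, 1, 6], .imp 1),
   ([0, 1, 3, 1, 4, 3, 1, 6], .imp 1),
   ([2, 3, 2, 4, 3, 2, 6], .imp 2),
   ([0, 2, 0, 3, 2, 0, 4, 3, 2, 0, 6], .imp 0),
   ([1, 2, 3, 1, 2, 3, 4, 3, 1, 2, 3, 4, 6], .sq 6 2),
   ([0, 1, 2, 0, 3, 1, 2, 0, 3, 2, 4, 3, 1, 2, 0, 3, 2, 4, 3, 1, 6], .imp 1),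
   ([5, 6, 5], .imp 5),
   ([0, 5, 6, 5], .imp 5),
   ([1, 5, 6, 5], .imp 5),
   ([0, 1, 5, 6, 5], .imp 5),
   ([2, 5, 6, 5], .imp 5),
   ([0, 2, 0, 5, 6, 5], .imp 0),
   ([1, 2, 5, 6, 5], .imp 5),
   ([0, 1, 2, 0, 5, 6, 5], .imp 0),
   ([3, 5, 6, 5], .imp 5),
   ([0, 3, 5, 6, 5], .imp 5),
   ([1, 3, 1, 5, 6, 5], .imp 1),
   ([0, 1, 3, 1, 5, 6, 5], .imp 1),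
   ([2, 3, 2, 5, 6, 5], .imp 2),
   ([0, 2, 0, 3, 2, 0, 5, 6, 5], .imp 0),
   ([1, 2, 3, 1, 2, 3, 5, 6, 5], .imp 1),
   ([0, 1, 2, 0, 3, 1, 2, 0, 3, 2, 5, 6, 5], .imp 0),
   ([4, 5, 4, 6, 5, 4], .imp 4),
   ([0, 4, 5, 4, 6, 5, 4], .imp 4),
   ([1, 4, 5, 4, 6, 5, 4], .imp 4),
   ([0, 1, 4, 5, 4, 6, 5, 4], .imp 4),
   ([2, 4, 5, 4, 6, 5, 4], .imp 4),
   ([0, 2, 0, 4, 5, 4, 6, 5, 4], .imp 0),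
   ([1, 2, 4, 5, 4, 6, 5, 4], .imp 4),
   ([0, 1, 2, 0, 4, 5, 4, 6, 5, 4], .imp 0),
   ([3, 4, 3, 5, 4, 3, 6, 5, 4, 3], .imp 3),
   ([0, 3, 4, 3, 5, 4, 3, 6, 5, 4, 3], .imp 3),
   ([1, 3, 1, 4, 3, 1, 5, 4, 3, 1, 6, 5, 4, 3, 1], .imp 1),
   ([0, 1, 3, 1, 4, 3, 1, 5, 4, 3, 1, 6, 5, 4, 3, 1], .imp 1),
   ([2, 3, 2, 4, 3, 2, 5, 4, 3, 2, 6, 5, 4, 3, 2], .imp 2),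
   ([0, 2, 0, 3, 2, 0, 4, 3, 2, 0, 5, 4, 3, 2, 0, 6, 5, 4, 3, 2, 0], .imp 0),
   ([1, 2, 3, 1, 2, 3, 4, 3, 1, 2, 3, 4, 5, 4, 3, 1, 2, 3, 4, 5, 6, 5, 4, 3, 1, 2, 3, 4, 5, 6], .tri 1 3 142),
   ([0, 1, 2, 0, 3, 1, 2, 0, 3, 2, 4, 3, 1, 2, 0, 3, 2, 4, 3, 1, 5, 4, 3, 1, 2, 0, 3, 2, 4, 3, 1, 5, 4, 3, 2, 0, 6, 5, 4, 3, 1, 2, 0, 3, 2, 4, 3, 1, 5, 4, 3, 2, 0, 6, 5, 4, 3, 1, 2, 3, 4, 5, 6], .tri 0 2 163),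
   ([7], .sq 7 1),
   ([0, 7], .sq 0 14),
   ([1, 7], .sq 1 7),
   ([0, 1, 7], .sq 0 16),
   ([2, 7], .sq 2 6),
   ([0, 2, 0, 7], .imp 0),
   ([1, 2, 7], .sq 1 15),
   ([0, 1, 2, 0, 7], .imp 0),
   ([3, 7], .sq 3 5),
   ([0, 3, 7], .sq 0 14),
   ([1, 3, 1, 7], .imp 1),
   ([0, 1, 3, 1, 7], .imp 1),
   ([2, 3, 2, 7], .imp 2),
   ([0, 2, 0, 3, 2, 0, 7], .imp 0),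
   ([1, 2, 3, 1, 2, 3, 7], .imp 1),
   ([0, 1, 2, 0, 3, 1, 2, 0, 3, 2, 7], .imp 0),
   ([4, 7], .sq 4 4),
   ([0, 4, 7], .sq 0 14),
   ([1, 4, 7], .sq 1 7),
   ([0, 1, 4, 7], .sq 0 18),
   ([2, 4, 7], .sq 2 6),
   ([0, 2, 0, 4, 7], .imp 0),
   ([1, 2, 4, 7], .sq 1 15),
   ([0, 1, 2, 0, 4, 7], .imp 0),
   ([3, 4, 3, 7], .imp 3),
   ([0, 3, 4, 3, 7], .imp 3),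
   ([1, 3, 1, 4, 3, 1, 7], .imp 1),
   ([0, 1, 3, 1, 4, 3, 1, 7], .imp 1),
   ([2, 3, 2, 4, 3, 2, 7], .imp 2),
   ([0, 2, 0, 3, 2, 0, 4, 3, 2, 0, 7], .imp 0),
   ([1, 2, 3, 1, 2, 3, 4, 3, 1, 2, 3, 4, 7], .sq 7 1),
   ([0, 1, 2, 0, 3, 1, 2, 0, 3, 2, 4, 3, 1, 2, 0, 3, 2, 4, 3, 1, 7], .imp 1),
   ([5, 7], .sq 5 3),
   ([0, 5, 7], .sq 0 14),
   ([1, 5, 7], .sq 1 7),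
   ([0, 1, 5, 7], .sq 0 16),
   ([2, 5, 7], .sq 2 6),
   ([0, 2, 0, 5, 7], .imp 0),
   ([1, 2, 5, 7], .sq 1 15),
   ([0, 1, 2, 0, 5, 7], .imp 0),
   ([3, 5, 7], .sq 3 5),
   ([0, 3, 5, 7], .sq 0 14),
   ([1, 3, 1, 5, 7], .imp 1),
   ([0, 1, 3, 1, 5, 7], .imp 1),
   ([2, 3, 2, 5, 7], .imp 2),
   ([0, 2, 0, 3, 2, 0, 5, 7], .imp 0),
   ([1, 2, 3, 1, 2, 3, 5, 7], .imp 1),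
   ([0, 1, 2, 0, 3, 1, 2, 0, 3, 2, 5, 7], .imp 0),
   ([4, 5, 4, 7], .imp 4),
   ([0, 4, 5, 4, 7], .imp 4),
   ([1, 4, 5, 4, 7], .imp 4),
   ([0, 1, 4, 5, 4, 7], .imp 4),
   ([2, 4, 5, 4, 7], .imp 4),
   ([0, 2, 0, 4, 5, 4, 7], .imp 0),
   ([1, 2, 4, 5, 4, 7], .imp 4),
   ([0, 1, 2, 0, 4, 5, 4, 7], .imp 0),
   ([3, 4, 3, 5, 4, 3, 7], .imp 3),
   ([0, 3, 4, 3, 5, 4, 3, 7], .imp 3),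
   ([1, 3, 1, 4, 3, 1, 5, 4, 3, 1, 7], .imp 1),
   ([0, 1, 3, 1, 4, 3, 1, 5, 4, 3, 1, 7], .imp 1),
   ([2, 3, 2, 4, 3, 2, 5, 4, 3, 2, 7], .imp 2),
   ([0, 2, 0, 3, 2, 0, 4, 3, 2, 0, 5, 4, 3, 2, 0, 7], .imp 0),
   ([1, 2, 3, 1, 2, 3, 4, 3, 1, 2, 3, 4, 5, 4, 3, 1, 2, 3, 4, 5, 7], .imp 1),
   ([0, 1, 2, 0, 3, 1, 2, 0, 3, 2, 4, 3, 1, 2, 0, 3, 2, 4, 3, 1, 5, 4, 3, 1, 2, 0, 3, 2, 4, 3, 1, 5, 4, 3, 2, 0, 7], .imp 0),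
   ([6, 7, 6], .imp 6),
   ([0, 6, 7, 6], .imp 6),
   ([1, 6, 7, 6], .imp 6),
   ([0, 1, 6, 7, 6], .imp 6),
   ([2, 6, 7, 6], .imp 6),
   ([0, 2, 0, 6, 7, 6], .imp 0),
   ([1, 2, 6, 7, 6], .imp 6),
   ([0, 1, 2, 0, 6, 7, 6], .imp 0),
   ([3, 6, 7, 6], .imp 6),
   ([0, 3, 6, 7, 6], .imp 6),
   ([1, 3, 1, 6, 7, 6], .imp 1),
   ([0, 1, 3, 1, 6, 7, 6], .imp 1),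
   ([2, 3, 2, 6, 7, 6], .imp 2),
   ([0, 2, 0, 3, 2, 0, 6, 7, 6], .imp 0),
   ([1, 2, 3, 1, 2, 3, 6, 7, 6], .imp 1),
   ([0, 1, 2, 0, 3, 1, 2, 0, 3, 2, 6, 7, 6], .imp 0),
   ([4, 6, 7, 6], .imp 6),
   ([0, 4, 6, 7, 6], .imp 6),
   ([1, 4, 6, 7, 6], .imp 6),
   ([0, 1, 4, 6, 7, 6], .imp 6),
   ([2, 4, 6, 7, 6], .imp 6),
   ([0, 2, 0, 4, 6, 7, 6], .imp 0),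
   ([1, 2, 4, 6, 7, 6], .imp 6),
   ([0, 1, 2, 0, 4, 6, 7, 6], .imp 0),
   ([3, 4, 3, 6, 7, 6], .imp 3),
   ([0, 3, 4, 3, 6, 7, 6], .imp 3),
   ([1, 3, 1, 4, 3, 1, 6, 7, 6], .imp 1),
   ([0, 1, 3, 1, 4, 3, 1, 6, 7, 6], .imp 1),
   ([2, 3, 2, 4, 3, 2, 6, 7, 6], .imp 2),
   ([0, 2, 0, 3, 2, 0, 4, 3, 2, 0, 6, 7, 6], .imp 0),
   ([1, 2, 3, 1, 2, 3, 4, 3, 1, 2, 3, 4, 6, 7, 6], .imp 6),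
   ([0, 1, 2, 0, 3, 1, 2, 0, 3, 2, 4, 3, 1, 2, 0, 3, 2, 4, 3, 1, 6, 7, 6], .imp 1),
   ([5, 6, 5, 7, 6, 5], .imp 5),
   ([0, 5, 6, 5, 7, 6, 5], .imp 5),
   ([1, 5, 6, 5, 7, 6, 5], .imp 5),
   ([0, 1, 5, 6, 5, 7, 6, 5], .imp 5),
   ([2, 5, 6, 5, 7, 6, 5], .imp 5),
   ([0, 2, 0, 5, 6, 5, 7, 6, 5], .imp 0),
   ([1, 2, 5, 6, 5, 7, 6, 5], .imp 5),
   ([0, 1, 2, 0, 5, 6, 5, 7, 6, 5], .imp 0),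
   ([3, 5, 6, 5, 7, 6, 5], .imp 5),
   ([0, 3, 5, 6, 5, 7, 6, 5], .imp 5),
   ([1, 3, 1, 5, 6, 5, 7, 6, 5], .imp 1),
   ([0, 1, 3, 1, 5, 6, 5, 7, 6, 5], .imp 1),
   ([2, 3, 2, 5, 6, 5, 7, 6, 5], .imp 2),
   ([0, 2, 0, 3, 2, 0, 5, 6, 5, 7, 6, 5], .imp 0),
   ([1, 2, 3, 1, 2, 3, 5, 6, 5, 7, 6, 5], .imp 1),
   ([0, 1, 2, 0, 3, 1, 2, 0, 3, 2, 5, 6, 5, 7, 6, 5], .imp 0),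
   ([4, 5, 4, 6, 5, 4, 7, 6, 5, 4], .imp 4),
   ([0, 4, 5, 4, 6, 5, 4, 7, 6, 5, 4], .imp 4),
   ([1, 4, 5, 4, 6, 5, 4, 7, 6, 5, 4], .imp 4),
   ([0, 1, 4, 5, 4, 6, 5, 4, 7, 6, 5, 4], .imp 4),
   ([2, 4, 5, 4, 6, 5, 4, 7, 6, 5, 4], .imp 4),
   ([0, 2, 0, 4, 5, 4, 6, 5, 4, 7, 6, 5, 4], .imp 0),
   ([1, 2, 4, 5, 4, 6, 5, 4, 7, 6, 5, 4], .imp 4),
   ([0, 1, 2, 0, 4, 5, 4, 6, 5, 4, 7, 6, 5, 4], .imp 0),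
   ([3, 4, 3, 5, 4, 3, 6, 5, 4, 3, 7, 6, 5, 4, 3], .imp 3),
   ([0, 3, 4, 3, 5, 4, 3, 6, 5, 4, 3, 7, 6, 5, 4, 3], .imp 3),
   ([1, 3, 1, 4, 3, 1, 5, 4, 3, 1, 6, 5, 4, 3, 1, 7, 6, 5, 4, 3, 1], .imp 1),
   ([0, 1, 3, 1, 4, 3, 1, 5, 4, 3, 1, 6, 5, 4, 3, 1, 7, 6, 5, 4, 3, 1], .imp 1),
   ([2, 3, 2, 4, 3, 2, 5, 4, 3, 2, 6, 5, 4, 3, 2, 7, 6, 5, 4, 3, 2], .imp 2),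
   ([0, 2, 0, 3, 2, 0, 4, 3, 2, 0, 5, 4, 3, 2, 0, 6, 5, 4, 3, 2, 0, 7, 6, 5, 4, 3, 2, 0], .imp 0),
   ([1, 2, 3, 1, 2, 3, 4, 3, 1, 2, 3, 4, 5, 4, 3, 1, 2, 3, 4, 5, 6, 5, 4, 3, 1, 2, 3, 4, 5, 6, 7, 6, 5, 4, 3, 1, 2, 3, 4, 5, 6, 7], .imp 1),
   ([0, 1, 2, 0, 3, 1, 2, 0, 3, 2, 4, 3, 1, 2, 0, 3, 2, 4, 3, 1, 5, 4, 3, 1, 2, 0, 3, 2, 4, 3, 1, 5, 4, 3, 2, 0, 6, 5, 4, 3, 1, 2, 0, 3, 2, 4, 3, 1, 5, 4, 3, 2, 0, 6, 5, 4, 3, 1, 2, 3, 4, 5, 6, 7, 6, 5, 4, 3, 1, 2, 0, 3, 2, 4, 3, 1, 5, 4, 3, 2, 0, 6, 5, 4, 3, 1, 2, 3, 4, 5, 6, 7, 6, 5, 4, 3, 1, 2, 0, 3, 2, 4, 3, 1, 5, 4, 3, 2, 0, 6, 5, 4, 3, 1, 2, 3, 4, 5, 6, 7], .tri 0 2 163)]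

/-- The orbits on the torus involutions. -/
def tab : List (ℕ × ℕ × ℕ × ℕ) :=
  [(0, 0, 0, 0),
   (0, 0, 0, 1),
   (1, 10, 22, 1),
   (0, 0, 0, 3),
   (2, 13, 21, 3),
   (0, 1, 1, 1),
   (2, 15, 3, 3),
   (0, 3, 1, 3),
   (3, 30, 21, 3),
   (3, 31, 21, 3),
   (3, 28, 21, 1),
   (1, 3, 1, 3),
   (2, 5, 2, 1),
   (3, 27, 20, 3),
   (2, 7, 2, 3),
   (1, 7, 2, 3),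
   (4, 56, 20, 1),
   (4, 57, 20, 1),
   (1, 26, 4, 1),
   (4, 59, 18, 3),
   (2, 29, 3, 3),
   (4, 61, 19, 1),
   (4, 62, 21, 3),
   (4, 63, 19, 3),
   (3, 14, 3, 3),
   (3, 15, 3, 3),
   (3, 12, 3, 1),
   (4, 51, 19, 3),
   (4, 52, 20, 1),
   (3, 11, 2, 3),
   (4, 54, 20, 3),
   (4, 55, 20, 3),
   (5, 112, 16, 1),
   (0, 37, 8, 1),
   (1, 42, 6, 3),
   (5, 115, 16, 1),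
   (5, 116, 15, 3),
   (2, 44, 7, 1),
   (5, 118, 19, 1),
   (5, 119, 17, 1),
   (5, 120, 21, 3),
   (5, 121, 17, 3),
   (3, 60, 5, 3),
   (5, 123, 17, 1),
   (3, 58, 6, 1),
   (5, 125, 16, 3),
   (5, 126, 18, 1),
   (5, 127, 18, 1),
   (4, 24, 4, 3),
   (4, 25, 4, 3),
   (4, 26, 4, 1),
   (5, 99, 18, 3),
   (5, 100, 19, 1),
   (4, 29, 3, 3),
   (5, 102, 19, 3),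
   (5, 103, 19, 3),
   (5, 104, 19, 1),
   (5, 105, 19, 1),
   (4, 18, 5, 1),
   (5, 107, 17, 3),
   (4, 20, 4, 3),
   (5, 109, 18, 1),
   (5, 110, 20, 3),
   (5, 111, 18, 3),
   (6, 224, 21, 3),
   (0, 69, 11, 3),
   (6, 226, 11, 3),
   (1, 75, 11, 1),
   (6, 228, 12, 1),
   (2, 76, 10, 3),
   (2, 79, 12, 1),
   (1, 79, 12, 1),
   (6, 232, 18, 1),
   (6, 233, 14, 1),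
   (6, 234, 12, 3),
   (3, 93, 10, 1),
   (3, 90, 9, 3),
   (6, 237, 13, 1),
   (2, 71, 13, 1),
   (3, 89, 11, 1),
   (6, 240, 21, 3),
   (6, 241, 15, 3),
   (4, 122, 7, 3),
   (6, 243, 15, 1),
   (4, 124, 8, 1),
   (6, 245, 14, 3),
   (6, 246, 16, 1),
   (6, 247, 16, 1),
   (3, 78, 14, 1),
   (4, 113, 10, 1),
   (4, 114, 8, 3),
   (6, 251, 14, 1),
   (6, 252, 13, 3),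
   (4, 117, 9, 1),
   (6, 254, 17, 1),
   (6, 255, 15, 1),
   (5, 48, 5, 3),
   (5, 49, 5, 3),
   (5, 50, 5, 1),
   (6, 195, 17, 3),
   (6, 196, 18, 1),
   (5, 53, 4, 3),
   (6, 198, 18, 3),
   (6, 199, 18, 3),
   (6, 200, 18, 1),
   (6, 201, 18, 1),
   (5, 58, 6, 1),
   (6, 203, 16, 3),
   (5, 60, 5, 3),
   (6, 205, 17, 1),
   (6, 206, 19, 3),
   (6, 207, 17, 3),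
   (4, 88, 15, 1),
   (5, 33, 9, 1),
   (5, 34, 7, 3),
   (6, 211, 15, 1),
   (6, 212, 14, 3),
   (5, 37, 8, 1),
   (6, 214, 18, 1),
   (6, 215, 16, 1),
   (6, 216, 20, 3),
   (6, 217, 16, 3),
   (5, 42, 6, 3),
   (6, 219, 16, 1),
   (5, 44, 7, 1),
   (6, 221, 15, 3),
   (6, 222, 17, 1),
   (6, 223, 17, 1),
   (7, 192, 7, 3),
   (7, 193, 7, 3),
   (7, 194, 7, 1),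
   (1, 139, 15, 3),
   (2, 141, 16, 1),
   (7, 197, 6, 3),
   (2, 143, 16, 3),
   (1, 143, 16, 3),
   (3, 158, 16, 1),
   (3, 159, 16, 1),
   (7, 202, 8, 1),
   (3, 157, 14, 3),
   (7, 204, 7, 3),
   (3, 155, 15, 1),
   (2, 135, 17, 3),
   (3, 153, 15, 3),
   (7, 208, 17, 1),
   (7, 209, 11, 1),
   (7, 210, 9, 3),
   (4, 187, 13, 1),
   (4, 188, 12, 3),
   (7, 213, 10, 1),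
   (4, 190, 16, 1),
   (4, 191, 14, 1),
   (3, 142, 18, 3),
   (4, 177, 14, 3),
   (7, 218, 8, 3),
   (4, 179, 14, 1),
   (7, 220, 9, 1),
   (4, 181, 13, 3),
   (4, 182, 15, 1),
   (4, 183, 15, 1),
   (7, 224, 21, 3),
   (7, 225, 13, 3),
   (5, 242, 9, 3),
   (7, 227, 13, 1),
   (5, 244, 10, 1),
   (7, 229, 12, 3),
   (7, 230, 14, 1),
   (7, 231, 14, 1),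
   (5, 248, 16, 1),
   (5, 249, 12, 1),
   (5, 250, 10, 3),
   (7, 235, 12, 1),
   (7, 236, 11, 3),
   (5, 253, 11, 1),
   (7, 238, 15, 1),
   (7, 239, 13, 1),
   (4, 152, 19, 3),
   (5, 225, 13, 3),
   (7, 242, 9, 3),
   (5, 227, 13, 1),
   (7, 244, 10, 1),
   (5, 229, 12, 3),
   (5, 230, 14, 1),
   (5, 231, 14, 1),
   (7, 248, 16, 1),
   (7, 249, 12, 1),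
   (7, 250, 10, 3),
   (5, 235, 12, 1),
   (5, 236, 11, 3),
   (7, 253, 11, 1),
   (5, 238, 15, 1),
   (5, 239, 13, 1),
   (6, 96, 6, 3),
   (6, 97, 6, 3),
   (6, 98, 6, 1),
   (7, 131, 16, 3),
   (7, 132, 17, 1),
   (6, 101, 5, 3),
   (7, 134, 17, 3),
   (7, 135, 17, 3),
   (7, 136, 17, 1),
   (7, 137, 17, 1),
   (6, 106, 7, 1),
   (7, 139, 15, 3),
   (6, 108, 6, 3),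
   (7, 141, 16, 1),
   (7, 142, 18, 3),
   (7, 143, 16, 3),
   (6, 112, 16, 1),
   (6, 113, 10, 1),
   (6, 114, 8, 3),
   (7, 147, 14, 1),
   (7, 148, 13, 3),
   (6, 117, 9, 1),
   (7, 150, 17, 1),
   (7, 151, 15, 1),
   (7, 152, 19, 3),
   (7, 153, 15, 3),
   (6, 122, 7, 3),
   (7, 155, 15, 1),
   (6, 124, 8, 1),
   (7, 157, 14, 3),
   (7, 158, 16, 1),
   (7, 159, 16, 1),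
   (5, 176, 20, 3),
   (6, 65, 12, 3),
   (7, 162, 10, 3),
   (6, 67, 12, 1),
   (7, 164, 11, 1),
   (6, 69, 11, 3),
   (6, 70, 13, 1),
   (6, 71, 13, 1),
   (7, 168, 17, 1),
   (7, 169, 13, 1),
   (7, 170, 11, 3),
   (6, 75, 11, 1),
   (6, 76, 10, 3),
   (7, 173, 12, 1),
   (6, 78, 14, 1),
   (6, 79, 12, 1),
   (7, 176, 20, 3),
   (7, 177, 14, 3),
   (6, 82, 8, 3),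
   (7, 179, 14, 1),
   (6, 84, 9, 1),
   (7, 181, 13, 3),
   (7, 182, 15, 1),
   (7, 183, 15, 1),
   (6, 88, 15, 1),
   (6, 89, 11, 1),
   (6, 90, 9, 3),
   (7, 187, 13, 1),
   (7, 188, 12, 3),
   (6, 93, 10, 1),
   (7, 190, 16, 1),
   (7, 191, 14, 1)]

/-- A class of involutions. -/
def cls0 : ClassData where
  ε := 1
  N := 56
  degs := [2, 4, 6, 8, 8, 10, 12, 14]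
  A := [[-1, 0, 0, 0, 0, 0, 2, 0], [-2, 2, 0, 0, 0, 0, 0, 0], [-2, 0, 0, 0, 0, 2, 0, 0], [-3, 0, 0, 0, 2, 0, 0, 0], [-4, 0, 0, 2, 0, 0, 0, 0], [-3, 0, 2, 0, 0, 0, 0, 0], [0, 0, 0, 0, 0, 0, 0, 2], [1, 0, 0, 0, 0, 0, 0, 0]]
  levels :=
    [[([], 0), ([6], 1)],
     [([], 0), ([1], 1)],
     [([], 0), ([5], 1), ([6, 5], 2)],
     [([], 0), ([4], 1), ([5, 4], 2), ([6, 5, 4], 3)],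
     [([], 0), ([3], 1), ([1, 3], 2), ([4, 3], 2), ([1, 4, 3], 3), ([5, 4, 3], 3), ([1, 5, 4, 3], 4), ([3, 1, 4, 3], 4), ([6, 5, 4, 3], 4), ([1, 6, 5, 4, 3], 5), ([3, 1, 5, 4, 3], 5), ([3, 1, 6, 5, 4, 3], 6), ([4, 3, 1, 5, 4, 3], 6), ([4, 3, 1, 6, 5, 4, 3], 7), ([5, 4, 3, 1, 6, 5, 4, 3], 8)],
     [([], 0), ([2], 1), ([3, 2], 2), ([1, 3, 2], 3), ([4, 3, 2], 3), ([1, 4, 3, 2], 4), ([5, 4, 3, 2], 4), ([1, 5, 4, 3, 2], 5), ([3, 1, 4, 3, 2], 5), ([6, 5, 4, 3, 2], 5), ([1, 6, 5, 4, 3, 2], 6), ([3, 1, 5, 4, 3, 2], 6), ([2, 3, 1, 4, 3, 2], 6), ([3, 1, 6, 5, 4, 3, 2], 7), ([4, 3, 1, 5, 4, 3, 2], 7), ([2, 3, 1, 5, 4, 3, 2], 7), ([4, 3, 1, 6, 5, 4, 3, 2], 8), ([2, 3, 1, 6, 5, 4, 3, 2], 8), ([2, 4, 3, 1, 5, 4, 3, 2],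 8), ([5, 4, 3, 1, 6, 5, 4, 3, 2], 9), ([2, 4, 3, 1, 6, 5, 4, 3, 2], 9), ([3, 2, 4, 3, 1, 5, 4, 3, 2], 9), ([2, 5, 4, 3, 1, 6, 5, 4, 3, 2], 10), ([3, 2, 4, 3, 1, 6, 5, 4, 3, 2], 10), ([1, 3, 2, 4, 3, 1, 5, 4, 3, 2], 10), ([3, 2, 5, 4, 3, 1, 6, 5, 4, 3, 2], 11), ([1, 3, 2, 4, 3, 1, 6, 5, 4, 3, 2], 11), ([1, 3, 2, 5, 4, 3, 1, 6, 5, 4, 3, 2], 12), ([4, 3, 2, 5, 4, 3, 1, 6, 5, 4, 3, 2], 12), ([1, 4, 3, 2, 5, 4, 3, 1, 6, 5, 4, 3, 2], 13), ([3, 1, 4, 3, 2, 5, 4, 3, 1, 6, 5, 4, 3, 2], 14), ([2, 3, 1, 4, 3, 2, 5, 4, 3, 1, 6, 5, 4, 3, 2], 15)],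
     [([], 0), ([7], 1), ([6, 7], 2), ([5, 6, 7], 3), ([4, 5, 6, 7], 4), ([3, 4, 5, 6, 7], 5), ([1, 3, 4, 5, 6, 7], 6), ([2, 3, 4, 5, 6, 7], 6), ([1, 2, 3, 4, 5, 6, 7], 7), ([3, 1, 2, 3, 4, 5, 6, 7], 8), ([4, 3, 1, 2, 3, 4, 5, 6, 7], 9), ([5, 4, 3, 1, 2, 3, 4, 5, 6, 7], 10), ([6, 5, 4, 3, 1, 2, 3, 4, 5, 6, 7], 11), ([7, 6, 5, 4, 3, 1, 2, 3, 4, 5, 6, 7], 12)],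
     [([], 0), ([0, 2, 3, 1, 4, 3, 2, 0, 5, 4, 3, 1, 2, 3, 4, 5, 6, 5, 4, 3, 1, 2, 0, 3, 2, 4, 3, 1, 5, 4, 3, 2, 0], 1), ([0, 2, 3, 1, 4, 3, 2, 0, 5, 4, 3, 1, 2, 3, 4, 5, 7, 6, 5, 4, 3, 1, 2, 0, 3, 2, 4, 3, 1, 5, 4, 3, 2, 0], 2), ([0, 2, 3, 1, 4, 3, 2, 0, 6, 5, 4, 3, 1, 2, 3, 4, 5, 7, 6, 5, 4, 3, 1, 2, 0, 3, 2, 4, 3, 1, 5, 4, 3, 2, 0], 3), ([0, 2, 3, 1, 5, 4, 3, 2, 0, 6, 5, 4, 3, 1, 2, 3, 4, 5, 7, 6, 5, 4, 3, 1, 2, 0, 3, 2, 4, 3, 1, 5, 4, 3, 2, 0], 4), ([0, 2, 4, 3, 1, 5, 4, 3, 2, 0, 6, 5, 4, 3, 1, 2, 3, 4, 5, 7, 6, 5, 4, 3, 1, 2, 0, 3, 2, 4, 3, 1, 5, 4, 3, 2, 0], 5), ([0, 3, 2, 4, 3, 1, 5, 4, 3, 2, 0, 6, 5, 4, 3, 1, 2, 3, 4, 5, 7, 6, 5, 4, 3, 1, 2, 0, 3, 2, 4, 3, 1, 5, 4, 3, 2, 0], 6), ([0, 1, 3, 2, 4,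 3, 1, 5, 4, 3, 2, 0, 6, 5, 4, 3, 1, 2, 3, 4, 5, 7, 6, 5, 4, 3, 1, 2, 0, 3, 2, 4, 3, 1, 5, 4, 3, 2, 0], 7), ([2, 0, 3, 2, 4, 3, 1, 5, 4, 3, 2, 0, 6, 5, 4, 3, 1, 2, 3, 4, 5, 7, 6, 5, 4, 3, 1, 2, 0, 3, 2, 4, 3, 1, 5, 4, 3, 2, 0], 7), ([1, 2, 0, 3, 2, 4, 3, 1, 5, 4, 3, 2, 0, 6, 5, 4, 3, 1, 2, 3, 4, 5, 7, 6, 5, 4, 3, 1, 2, 0, 3, 2, 4, 3, 1, 5, 4, 3, 2, 0], 8), ([3, 1, 2, 0, 3, 2, 4, 3, 1, 5, 4, 3, 2, 0, 6, 5, 4, 3, 1, 2, 3, 4, 5, 7, 6, 5, 4, 3, 1, 2, 0, 3, 2, 4, 3, 1, 5, 4, 3, 2, 0], 9), ([4, 3, 1, 2, 0, 3, 2, 4, 3, 1, 5, 4, 3, 2, 0, 6, 5, 4, 3, 1, 2, 3, 4, 5, 7, 6, 5, 4, 3, 1, 2, 0, 3, 2, 4, 3, 1, 5, 4, 3, 2, 0], 10), ([5, 4, 3, 1, 2, 0, 3, 2, 4, 3, 1, 5, 4, 3, 2, 0, 6, 5, 4, 3, 1, 2, 3, 4, 5, 7, 6, 5, 4, 3,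 1, 2, 0, 3, 2, 4, 3, 1, 5, 4, 3, 2, 0], 11), ([6, 5, 4, 3, 1, 2, 0, 3, 2, 4, 3, 1, 5, 4, 3, 2, 0, 6, 5, 4, 3, 1, 2, 3, 4, 5, 7, 6, 5, 4, 3, 1, 2, 0, 3, 2, 4, 3, 1, 5, 4, 3, 2, 0], 12), ([7, 6, 5, 4, 3, 1, 2, 0, 3, 2, 4, 3, 1, 5, 4, 3, 2, 0, 6, 5, 4, 3, 1, 2, 3, 4, 5, 7, 6, 5, 4, 3, 1, 2, 0, 3, 2, 4, 3, 1, 5, 4, 3, 2, 0], 13), ([0, 2, 3, 1, 4, 3, 2, 0, 5, 4, 3, 1, 2, 3, 4, 5, 6, 5, 4, 3, 1, 2, 0, 3, 2, 4, 3, 1, 5, 4, 3, 2, 0, 7, 6, 5, 4, 3, 1, 2, 0, 3, 2, 4, 3, 1, 5, 4, 3, 2, 0, 6, 5, 4, 3, 1, 2, 3, 4, 5, 7, 6, 5, 4, 3, 1, 2, 0, 3, 2, 4, 3, 1, 5, 4, 3, 2, 0], 14)]]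

/-- A class of involutions. -/
def cls1 : ClassData where
  ε := 3
  N := 64
  degs := [2, 2, 6, 8, 10, 12, 14, 18]
  A := [[2, -4, 0, 2, 0, 0, 0, 0], [4, -4, 0, 0, 2, 0, 0, 0], [3, -3, 0, 0, 0, 2, 0, 0], [3, -1, 0, 0, 0, 0, 0, 0], [-1, 1, 0, 0, 0, 0, 0, 0], [0, -2, 2, 0, 0, 0, 0, 0], [2, -2, 0, 0, 0, 0, 2, 0], [1, -1, 0, 0, 0, 0, 0, 2]]
  levels :=
    [[([], 0), ([3], 1)],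
     [([], 0), ([4], 1), ([3, 4], 2)],
     [([], 0), ([5], 1), ([4, 5], 2), ([3, 4, 5], 3)],
     [([], 0), ([0, 1, 2, 3, 1, 2, 0], 1), ([0, 1, 2, 4, 3, 1, 2, 0], 2), ([0, 3, 1, 2, 4, 3, 1, 2, 0], 3), ([0, 1, 2, 5, 4, 3, 1, 2, 0], 3), ([0, 3, 1, 2, 5, 4, 3, 1, 2, 0], 4), ([0, 4, 3, 1, 2, 5, 4, 3, 1, 2, 0], 5), ([0, 1, 2, 3, 1, 2, 4, 3, 1, 2, 5, 4, 3, 1, 2, 0], 6)],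
     [([], 0), ([1, 3, 2, 4, 3, 1, 5, 4, 3, 2, 0, 6, 5, 4, 3, 1, 2, 3, 4, 5, 6, 7, 6, 5, 4, 3, 1, 2, 0, 3, 2, 4, 3, 1, 5, 4, 3, 2, 6, 5, 4, 3, 1], 1)],
     [([], 0), ([2], 1), ([3, 2], 2), ([4, 3, 2], 3), ([5, 4, 3, 2], 4), ([0, 1, 2, 3, 1, 2, 0, 4, 3, 2], 4), ([0, 1, 2, 3, 1, 2, 0, 5, 4, 3, 2], 5), ([0, 1, 2, 4, 3, 1, 2, 0, 5, 4, 3, 2], 6), ([0, 3, 1, 2, 4, 3, 1, 2, 0, 5, 4, 3, 2], 7), ([2, 0, 3, 1, 2, 4, 3, 1, 2, 0, 5, 4, 3, 2], 8)],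
     [([], 0), ([6], 1), ([5, 6], 2), ([4, 5, 6], 3), ([3, 4, 5, 6], 4), ([0, 1, 2, 3, 1, 2, 0, 4, 5, 6], 4), ([0, 1, 2, 3, 1, 2, 0, 3, 4, 5, 6], 5), ([2, 3, 4, 5, 6], 5), ([0, 1, 2, 4, 3, 1, 2, 0, 3, 4, 5, 6], 6), ([0, 1, 2, 0, 3, 1, 2, 0, 3, 4, 5, 6], 6), ([0, 1, 2, 5, 4, 3, 1, 2, 0, 3, 4, 5, 6], 7), ([0, 1, 2, 0, 4, 3, 1, 2, 0, 3, 4, 5, 6], 7), ([0, 1, 2, 0, 5, 4, 3, 1, 2, 0, 3, 4, 5, 6], 8), ([0, 1, 2, 6, 5, 4, 3, 1, 2, 0, 3, 4, 5, 6], 8), ([0, 3, 1, 2, 0, 4, 3, 1, 2, 0, 3, 4, 5, 6], 8), ([0, 3, 1, 2, 0, 5, 4, 3, 1, 2, 0, 3, 4, 5, 6], 9), ([0, 1, 2, 0, 6, 5, 4, 3, 1, 2, 0, 3, 4, 5, 6], 9), ([0, 4, 3, 1, 2, 0, 5, 4, 3, 1, 2, 0, 3, 4, 5, 6], 10), ([0, 3, 1, 2, 0, 6, 5, 4, 3, 1, 2, 0, 3, 4, 5, 6], 10),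 ([0, 1, 2, 3, 1, 2, 4, 3, 1, 2, 0, 5, 4, 3, 1, 2, 0, 3, 4, 5, 6], 11), ([0, 4, 3, 1, 2, 0, 6, 5, 4, 3, 1, 2, 0, 3, 4, 5, 6], 11), ([0, 1, 2, 3, 1, 2, 4, 3, 1, 2, 0, 6, 5, 4, 3, 1, 2, 0, 3, 4, 5, 6], 12), ([0, 5, 4, 3, 1, 2, 0, 6, 5, 4, 3, 1, 2, 0, 3, 4, 5, 6], 12), ([0, 1, 2, 3, 1, 2, 5, 4, 3, 1, 2, 0, 6, 5, 4, 3, 1, 2, 0, 3, 4, 5, 6], 13), ([0, 1, 2, 4, 3, 1, 2, 5, 4, 3, 1, 2, 0, 6, 5, 4, 3, 1, 2, 0, 3, 4, 5, 6], 14), ([0, 3, 1, 2, 4, 3, 1, 2, 5, 4, 3, 1, 2, 0, 6, 5, 4, 3, 1, 2, 0, 3, 4, 5, 6], 15), ([2, 0, 3, 1, 2, 4, 3, 1, 2, 5, 4, 3, 1, 2, 0, 6, 5, 4, 3, 1, 2, 0, 3, 4, 5, 6], 16)],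
     [([], 0), ([7], 1), ([6, 7], 2), ([5, 6, 7], 3), ([4, 5, 6, 7], 4), ([3, 4, 5, 6, 7], 5), ([0, 1, 2, 3, 1, 2, 0, 4, 5, 6, 7], 5), ([0, 1, 2, 3, 1, 2, 0, 3, 4, 5, 6, 7], 6), ([2, 3, 4, 5, 6, 7], 6), ([0, 1, 2, 4, 3, 1, 2, 0, 3, 4, 5, 6, 7], 7), ([0, 1, 2, 0, 3, 1, 2, 0, 3, 4, 5, 6, 7], 7), ([0, 1, 2, 5, 4, 3, 1, 2, 0, 3, 4, 5, 6, 7], 8), ([0, 1, 2, 0, 4, 3, 1, 2, 0, 3, 4, 5, 6, 7], 8), ([0, 1, 2, 0, 5, 4, 3, 1, 2, 0, 3, 4, 5, 6, 7], 9), ([0, 1, 2, 6, 5, 4, 3, 1, 2, 0, 3, 4, 5, 6, 7], 9), ([0, 3, 1, 2, 0, 4, 3, 1, 2, 0, 3, 4, 5, 6, 7], 9), ([0, 3, 1, 2, 0, 5, 4, 3, 1, 2, 0, 3, 4, 5, 6, 7], 10), ([0, 1, 2, 0, 6, 5, 4, 3, 1, 2, 0, 3, 4, 5, 6, 7], 10), ([0, 1, 2, 7, 6, 5, 4, 3, 1, 2, 0, 3, 4, 5, 6, 7], 10),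 ([0, 4, 3, 1, 2, 0, 5, 4, 3, 1, 2, 0, 3, 4, 5, 6, 7], 11), ([0, 3, 1, 2, 0, 6, 5, 4, 3, 1, 2, 0, 3, 4, 5, 6, 7], 11), ([0, 1, 2, 0, 7, 6, 5, 4, 3, 1, 2, 0, 3, 4, 5, 6, 7], 11), ([0, 1, 2, 3, 1, 2, 4, 3, 1, 2, 0, 5, 4, 3, 1, 2, 0, 3, 4, 5, 6, 7], 12), ([0, 4, 3, 1, 2, 0, 6, 5, 4, 3, 1, 2, 0, 3, 4, 5, 6, 7], 12), ([0, 3, 1, 2, 0, 7, 6, 5, 4, 3, 1, 2, 0, 3, 4, 5, 6, 7], 12), ([0, 1, 2, 3, 1, 2, 4, 3, 1, 2, 0, 6, 5, 4, 3, 1, 2, 0, 3, 4, 5, 6, 7], 13), ([0, 5, 4, 3, 1, 2, 0, 6, 5, 4, 3, 1, 2, 0, 3, 4, 5, 6, 7], 13), ([0, 4, 3, 1, 2, 0, 7, 6, 5, 4, 3, 1, 2, 0, 3, 4, 5, 6, 7], 13), ([0, 1, 2, 3, 1, 2, 5, 4, 3, 1, 2, 0, 6, 5, 4, 3, 1, 2, 0, 3, 4, 5, 6, 7], 14), ([0, 1, 2, 3, 1, 2, 4, 3, 1, 2, 0, 7, 6, 5, 4, 3, 1,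 2, 0, 3, 4, 5, 6, 7], 14), ([0, 5, 4, 3, 1, 2, 0, 7, 6, 5, 4, 3, 1, 2, 0, 3, 4, 5, 6, 7], 14), ([0, 1, 2, 4, 3, 1, 2, 5, 4, 3, 1, 2, 0, 6, 5, 4, 3, 1, 2, 0, 3, 4, 5, 6, 7], 15), ([0, 1, 2, 3, 1, 2, 5, 4, 3, 1, 2, 0, 7, 6, 5, 4, 3, 1, 2, 0, 3, 4, 5, 6, 7], 15), ([0, 6, 5, 4, 3, 1, 2, 0, 7, 6, 5, 4, 3, 1, 2, 0, 3, 4, 5, 6, 7], 15), ([0, 3, 1, 2, 4, 3, 1, 2, 5, 4, 3, 1, 2, 0, 6, 5, 4, 3, 1, 2, 0, 3, 4, 5, 6, 7], 16), ([0, 1, 2, 4, 3, 1, 2, 5, 4, 3, 1, 2, 0, 7, 6, 5, 4, 3, 1, 2, 0, 3, 4, 5, 6, 7], 16), ([0, 1, 2, 3, 1, 2, 6, 5, 4, 3, 1, 2, 0, 7, 6, 5, 4, 3, 1, 2, 0, 3, 4, 5, 6, 7], 16), ([2, 0, 3, 1, 2, 4, 3, 1, 2, 5, 4, 3, 1, 2, 0, 6, 5, 4, 3, 1, 2, 0, 3, 4, 5, 6, 7], 17), ([0, 3, 1, 2, 4, 3, 1, 2, 5, 4, 3,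 1, 2, 0, 7, 6, 5, 4, 3, 1, 2, 0, 3, 4, 5, 6, 7], 17), ([0, 1, 2, 4, 3, 1, 2, 6, 5, 4, 3, 1, 2, 0, 7, 6, 5, 4, 3, 1, 2, 0, 3, 4, 5, 6, 7], 17), ([2, 0, 3, 1, 2, 4, 3, 1, 2, 5, 4, 3, 1, 2, 0, 7, 6, 5, 4, 3, 1, 2, 0, 3, 4, 5, 6, 7], 18), ([0, 3, 1, 2, 4, 3, 1, 2, 6, 5, 4, 3, 1, 2, 0, 7, 6, 5, 4, 3, 1, 2, 0, 3, 4, 5, 6, 7], 18), ([0, 1, 2, 5, 4, 3, 1, 2, 6, 5, 4, 3, 1, 2, 0, 7, 6, 5, 4, 3, 1, 2, 0, 3, 4, 5, 6, 7], 18), ([2, 0, 3, 1, 2, 4, 3, 1, 2, 6, 5, 4, 3, 1, 2, 0, 7, 6, 5, 4, 3, 1, 2, 0, 3, 4, 5, 6, 7], 19), ([0, 3, 1, 2, 5, 4, 3, 1, 2, 6, 5, 4, 3, 1, 2, 0, 7, 6, 5, 4, 3, 1, 2, 0, 3, 4, 5, 6, 7], 19), ([2, 0, 3, 1, 2, 5, 4, 3, 1, 2, 6, 5, 4, 3, 1, 2, 0, 7, 6, 5, 4, 3, 1, 2, 0, 3, 4, 5, 6, 7], 20), ([0, 4,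 3, 1, 2, 5, 4, 3, 1, 2, 6, 5, 4, 3, 1, 2, 0, 7, 6, 5, 4, 3, 1, 2, 0, 3, 4, 5, 6, 7], 20), ([2, 0, 4, 3, 1, 2, 5, 4, 3, 1, 2, 6, 5, 4, 3, 1, 2, 0, 7, 6, 5, 4, 3, 1, 2, 0, 3, 4, 5, 6, 7], 21), ([0, 1, 2, 3, 1, 2, 4, 3, 1, 2, 5, 4, 3, 1, 2, 6, 5, 4, 3, 1, 2, 0, 7, 6, 5, 4, 3, 1, 2, 0, 3, 4, 5, 6, 7], 21), ([3, 2, 0, 4, 3, 1, 2, 5, 4, 3, 1, 2, 6, 5, 4, 3, 1, 2, 0, 7, 6, 5, 4, 3, 1, 2, 0, 3, 4, 5, 6, 7], 22), ([0, 1, 2, 0, 3, 1, 2, 4, 3, 1, 2, 5, 4, 3, 1, 2, 6, 5, 4, 3, 1, 2, 0, 7, 6, 5, 4, 3, 1, 2, 0, 3, 4, 5, 6, 7], 22), ([0, 2, 3, 1, 2, 0, 3, 2, 4, 3, 1, 2, 5, 4, 3, 1, 2, 6, 5, 4, 3, 1, 2, 0, 7, 6, 5, 4, 3, 1, 2, 0, 3, 4, 5, 6, 7], 23), ([0, 2, 3, 4, 3, 1, 2, 0, 3, 2, 4, 3, 1, 5, 4, 3, 1, 2, 6, 5, 4, 3, 1,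 2, 0, 7, 6, 5, 4, 3, 1, 2, 0, 3, 4, 5, 6, 7], 24), ([0, 2, 3, 4, 5, 4, 3, 1, 2, 0, 3, 2, 4, 3, 1, 5, 4, 3, 2, 6, 5, 4, 3, 1, 2, 0, 7, 6, 5, 4, 3, 1, 2, 0, 3, 4, 5, 6, 7], 25), ([0, 2, 3, 4, 5, 6, 5, 4, 3, 1, 2, 0, 3, 2, 4, 3, 1, 5, 4, 3, 2, 0, 6, 5, 4, 3, 1, 7, 6, 5, 4, 3, 1, 2, 0, 3, 4, 5, 6, 7], 26), ([0, 2, 3, 4, 5, 6, 7, 6, 5, 4, 3, 1, 2, 0, 3, 2, 4, 3, 1, 5, 4, 3, 2, 0, 6, 5, 4, 3, 1, 2, 3, 4, 5, 6, 7, 6, 5, 4, 3, 2, 0], 27)]]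

theorem red_ok : redOK CfsgLib.Chev.DataE8.tbl wl = true := by decide +kernel

theorem tab_ok : orbTableOK CfsgLib.Chev.DataE8.tbl tab = true := by decide +kernel

theorem cls0_ok : classOK CfsgLib.Chev.DataE8.tbl tab 696729600 cls0 = true := by decide +kernel

theorem cls1_ok : classOK CfsgLib.Chev.DataE8.tbl tab 696729600 cls1 = true := by decide +kernel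

theorem two_ok : twoOK CfsgLib.Chev.DataE8.tbl tab cls0.ε cls1.ε = true := by decide +kernel

end CfsgLib.Chev.OddInvol.DataE8
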